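import Mathlib
import Cfsg.Prelude.Def_Transfer
import Cfsg.Agent.Eq.Def_Transfer
import Cfsg.Agent.PGroup.Frattini
import Cfsg.Agent.Coprime.FixOrderP
import Cfsg.Agent.Involution.Dihedral

/-!
Groups with an elementary abelian subgroup of index `p` and derived subgroup of order `p` which have an
element of order `p` outside: the product of a group of order `p ^ 3` and a central elementary abelian group.
-/

set_option autoImplicit false

namespace CfsgLib.GenExtraspecial

open scoped commutatorElement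

variable {P : Type*} [Group P] {p : ℕ} [hp : Fact p.Prime] {x y z : P}

/-- The relations of a group of order `p ^ 3` with two generators of order `p`. -/
structure Rel (p : ℕ) (x y z : P) : Prop where
  xp : x ^ p = 1
  yp : y ^ p = 1
  zp : z ^ p = 1
  z1 : z ≠ 1
  xz : x * z = z * x
  yz : y * z = z * y
  conj : x * y * x⁻¹ = y * z

omit hp in
theorem zpow_eq_one_of_dvd {g : P} (hg : g ^ p = 1) {i : ℤ} (h : (p : ℤ) ∣ i) : g ^ i = 1 := by
  obtain ⟨k, rfl⟩ := h
  rw [zpow_mul, zpow_natCast, hg, one_zpow]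

theorem dvd_of_zpow_eq_one {g : P} (hg : g ^ p = 1) (hg1 : g ≠ 1) {i : ℤ} (h : g ^ i = 1) :
    (p : ℤ) ∣ i := by
  have h2 := orderOf_dvd_iff_zpow_eq_one.2 h
  rwa [orderOf_eq_prime hg hg1] at h2

omit hp in
theorem Rel.swap_zpow (h : Rel p x y z) (i j : ℤ) : x ^ i * y ^ j = y ^ j * x ^ i * z ^ (i * j) := by
  have hyz : Commute y z := h.yz
  have hxz : Commute x z := h.xz
  have h1 : SemiconjBy x y (y * z) := by
    show x * y = y * z * x
    rw [← h.conj]
    group
  have h2 : SemiconjBy x (y ^ j) (y ^ j * z ^ j) := by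
    have h3 := h1.zpow_right j
    rwa [hyz.mul_zpow] at h3
  have h4 : SemiconjBy (y ^ j) (x * z ^ j) x := by
    show y ^ j * (x * z ^ j) = x * y ^ j
    rw [show x * y ^ j = y ^ j * z ^ j * x from h2, (hxz.zpow_right j).eq]
    group
  have h5 : y ^ j * (x * z ^ j) ^ i = x ^ i * y ^ j := h4.zpow_right i
  rw [← h5, (hxz.zpow_right j).mul_zpow, ← zpow_mul, mul_comm j i]
  group

omit hp in
theorem Rel.exists_form (h : Rel p x y z) {g : P} (hg : g ∈ Subgroup.closure ({x, y} : Set P)) :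
    ∃ j i k : ℤ, g = y ^ j * x ^ i * z ^ k := by
  have hxz : Commute x z := h.xz
  have hyz : Commute y z := h.yz
  induction hg using Subgroup.closure_induction with
  | mem g hg =>
    rcases hg with rfl | hg
    · exact ⟨0, 1, 0, by simp⟩
    · rw [Set.mem_singleton_iff] at hg
      exact ⟨1, 0, 0, by simp [hg]⟩
  | one => exact ⟨0, 0, 0, by simp⟩
  | mul a b _ _ iha ihb =>
    obtain ⟨j, i, k, rfl⟩ := iha
    obtain ⟨j', i', k', rfl⟩ := ihb
    refine ⟨j + j', i + i', k + k' + i * j', ?_⟩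
    calc y ^ j * x ^ i * z ^ k * (y ^ j' * x ^ i' * z ^ k')
        = y ^ j * (x ^ i * (z ^ k * y ^ j')) * x ^ i' * z ^ k' := by group
      _ = y ^ j * (x ^ i * y ^ j') * (z ^ k * x ^ i') * z ^ k' := by
          rw [((hyz.symm).zpow_zpow k j').eq]; group
      _ = y ^ j * (y ^ j' * x ^ i * z ^ (i * j')) * (x ^ i' * z ^ k) * z ^ k' := by
          rw [h.swap_zpow, ((hxz.symm).zpow_zpow k i').eq]
      _ = y ^ j * y ^ j' * x ^ i * (z ^ (i * j') * x ^ i') * z ^ k * z ^ k' := by group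
      _ = y ^ j * y ^ j' * x ^ i * (x ^ i' * z ^ (i * j')) * z ^ k * z ^ k' := by
          rw [((hxz.symm).zpow_zpow (i * j') i').eq]
      _ = y ^ (j + j') * x ^ (i + i') * z ^ (k + k' + i * j') := by group
  | inv a _ iha =>
    obtain ⟨j, i, k, rfl⟩ := iha
    refine ⟨-j, -i, -k + i * j, ?_⟩
    calc (y ^ j * x ^ i * z ^ k)⁻¹ = z ^ (-k) * (x ^ (-i) * y ^ (-j)) := by group
      _ = z ^ (-k) * (y ^ (-j) * x ^ (-i)) * z ^ ((-i) * (-j)) := by rw [h.swap_zpow]; group
      _ = (y ^ (-j) * x ^ (-i)) * z ^ (-k) * z ^ ((-i) * (-j)) := by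
          rw [(((hyz.zpow_zpow (-j) (-k))).mul_left (hxz.zpow_zpow (-i) (-k))).eq]
      _ = y ^ (-j) * x ^ (-i) * z ^ (-k + i * j) := by
          rw [mul_assoc, ← zpow_add, neg_mul_neg]

omit hp in
theorem Rel.z_mem (h : Rel p x y z) : z ∈ Subgroup.closure ({x, y} : Set P) := by
  have hx : x ∈ Subgroup.closure ({x, y} : Set P) := Subgroup.subset_closure (by simp)
  have hy : y ∈ Subgroup.closure ({x, y} : Set P) := Subgroup.subset_closure (by simp)
  have e : z = y⁻¹ * (x * y * x⁻¹) := by rw [h.conj]; group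
  rw [e]
  exact mul_mem (inv_mem hy) (mul_mem (mul_mem hx hy) (inv_mem hx))

theorem Rel.x_of_comm (h : Rel p x y z) {j i k : ℤ}
    (hc : Commute (y ^ j * x ^ i * z ^ k) y) : (p : ℤ) ∣ i := by
  have hyz : Commute y z := h.yz
  refine dvd_of_zpow_eq_one h.zp h.z1 ?_
  have h1 : Commute (x ^ i) y := by
    have e : x ^ i = (y ^ j)⁻¹ * (y ^ j * x ^ i * z ^ k) * (z ^ k)⁻¹ := by group
    rw [e]
    exact (((Commute.refl y).zpow_left j).inv_left.mul_left hc).mul_left
      (hyz.symm.zpow_left k).inv_left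
  have h2 := h.swap_zpow i 1
  rw [zpow_one, mul_one, h1.eq] at h2
  exact mul_left_cancel (a := y * x ^ i) (by rw [mul_one]; exact h2.symm)

theorem Rel.y_of_comm (h : Rel p x y z) {j i k : ℤ}
    (hc : Commute (y ^ j * x ^ i * z ^ k) x) : (p : ℤ) ∣ j := by
  have hxz : Commute x z := h.xz
  refine dvd_of_zpow_eq_one h.zp h.z1 ?_
  have h1 : Commute (y ^ j) x := by
    have e : y ^ j = (y ^ j * x ^ i * z ^ k) * (z ^ k)⁻¹ * (x ^ i)⁻¹ := by group
    rw [e]
    exact (hc.mul_left (hxz.symm.zpow_left k).inv_left).mul_left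
      ((Commute.refl x).zpow_left i).inv_left
  have h2 := h.swap_zpow 1 j
  rw [zpow_one, one_mul, ← h1.eq] at h2
  exact mul_left_cancel (a := y ^ j * x) (by rw [mul_one]; exact h2.symm)

omit hp in
theorem Rel.form_z (h : Rel p x y z) {j i : ℤ} (hi : (p : ℤ) ∣ i) (hj : (p : ℤ) ∣ j) (k : ℤ) :
    y ^ j * x ^ i * z ^ k = z ^ k := by
  rw [zpow_eq_one_of_dvd h.xp hi, zpow_eq_one_of_dvd h.yp hj, one_mul, one_mul]

theorem Rel.center_eq (h : Rel p x y z) (hgen : Subgroup.closure ({x, y} : Set P) = ⊤) :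
    Subgroup.center P = Subgroup.zpowers z := by
  apply le_antisymm
  · intro g hg
    obtain ⟨j, i, k, rfl⟩ := h.exists_form (hgen ▸ Subgroup.mem_top g)
    have hgc := Subgroup.mem_center_iff.1 hg
    rw [h.form_z (h.x_of_comm (hgc y).symm) (h.y_of_comm (hgc x).symm)]
    exact ⟨k, rfl⟩
  · rw [Subgroup.zpowers_le, Subgroup.mem_center_iff]
    intro g
    obtain ⟨j, i, k, rfl⟩ := h.exists_form (hgen ▸ Subgroup.mem_top g)
    have hxz : Commute x z := h.xz
    have hyz : Commute y z := h.yz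
    exact (((hyz.zpow_left j).mul_left (hxz.zpow_left i)).mul_left ((Commute.refl z).zpow_left k)).eq

theorem Rel.card_eq (h : Rel p x y z) (hgen : Subgroup.closure ({x, y} : Set P) = ⊤) :
    Nat.card P = p ^ 3 := by
  have hpp := hp.out
  have hp0 : (p : ℤ) ≠ 0 := by exact_mod_cast hpp.ne_zero
  have hmod : ∀ {g : P}, g ^ p = 1 → ∀ i : ℤ, ∃ n : Fin p, g ^ i = g ^ ((n : ℕ) : ℤ) := by
    intro g hg i
    have h1 := Int.emod_nonneg i hp0
    have h2 := Int.emod_lt_of_pos i (b := (p : ℤ)) (by exact_mod_cast hpp.pos)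
    refine ⟨⟨(i % p).toNat, by omega⟩, ?_⟩
    rw [Int.toNat_of_nonneg h1]
    conv_lhs => rw [← Int.emod_add_mul_ediv i p, zpow_add,
      zpow_eq_one_of_dvd hg (dvd_mul_right _ _), mul_one]
  let f : Fin p × Fin p × Fin p → P := fun t =>
    y ^ ((t.1 : ℕ) : ℤ) * x ^ ((t.2.1 : ℕ) : ℤ) * z ^ ((t.2.2 : ℕ) : ℤ)
  have hf : Function.Bijective f := by
    constructor
    · rintro ⟨a, b, c⟩ ⟨a', b', c'⟩ he
      simp only [f] at he
      have hyz : Commute y z := h.yz
      have hxz : Commute x z := h.xz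
      have hfin : ∀ {u v : Fin p}, (p : ℤ) ∣ ((u : ℕ) : ℤ) - ((v : ℕ) : ℤ) → u = v := by
        intro u v huv
        apply Fin.ext
        have h1 := Int.eq_zero_of_abs_lt_dvd huv (by
          rw [abs_lt]; have := u.isLt; have := v.isLt; omega)
        omega
      -- compare the exponents of `x` by commuting with `y`
      have key : y ^ (((a : ℕ) : ℤ) - (a' : ℕ)) * x ^ (((b : ℕ) : ℤ) - (b' : ℕ)) *
          z ^ (((c : ℕ) : ℤ) - (c' : ℕ)) = 1 := by
        calc y ^ (((a : ℕ) : ℤ) - (a' : ℕ)) * x ^ (((b : ℕ) : ℤ) - (b' : ℕ)) *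
            z ^ (((c : ℕ) : ℤ) - (c' : ℕ))
            = (y ^ ((a' : ℕ) : ℤ))⁻¹ * (y ^ ((a : ℕ) : ℤ) * x ^ ((b : ℕ) : ℤ) *
              ((x ^ ((b' : ℕ) : ℤ))⁻¹ * z ^ ((c : ℕ) : ℤ))) * (z ^ ((c' : ℕ) : ℤ))⁻¹ := by group
          _ = (y ^ ((a' : ℕ) : ℤ))⁻¹ * (y ^ ((a : ℕ) : ℤ) * x ^ ((b : ℕ) : ℤ) *
              z ^ ((c : ℕ) : ℤ)) * ((x ^ ((b' : ℕ) : ℤ))⁻¹ * (z ^ ((c' : ℕ) : ℤ))⁻¹) := by
              rw [((hxz.zpow_zpow _ _).inv_left).eq]; group
          _ = (y ^ ((a' : ℕ) : ℤ))⁻¹ * (y ^ ((a' : ℕ) : ℤ) * x ^ ((b' : ℕ) : ℤ) *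
              z ^ ((c' : ℕ) : ℤ)) * ((x ^ ((b' : ℕ) : ℤ))⁻¹ * (z ^ ((c' : ℕ) : ℤ))⁻¹) := by rw [he]
          _ = x ^ ((b' : ℕ) : ℤ) * (z ^ ((c' : ℕ) : ℤ) * (x ^ ((b' : ℕ) : ℤ))⁻¹) *
              (z ^ ((c' : ℕ) : ℤ))⁻¹ := by group
          _ = 1 := by rw [← ((hxz.zpow_zpow _ _).inv_left).eq]; group
      have hb := h.x_of_comm (key ▸ Commute.one_left y)
      have ha := h.y_of_comm (key ▸ Commute.one_left x)
      rw [h.form_z hb ha] at key
      rw [hfin ha, hfin hb, hfin (dvd_of_zpow_eq_one h.zp h.z1 key)]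
    · intro g
      obtain ⟨j, i, k, rfl⟩ := h.exists_form (hgen ▸ Subgroup.mem_top g)
      obtain ⟨a, ha⟩ := hmod h.yp j
      obtain ⟨b, hb⟩ := hmod h.xp i
      obtain ⟨c, hc⟩ := hmod h.zp k
      exact ⟨(a, b, c), by simp only [f, ha, hb, hc]⟩
  rw [← Nat.card_congr (Equiv.ofBijective f hf), Nat.card_prod, Nat.card_prod, Nat.card_fin]
  ring

theorem Rel.pow_eq_one (h : Rel p x y z) (hgen : Subgroup.closure ({x, y} : Set P) = ⊤) (hp2 : p ≠ 2)
    (g : P) : g ^ p = 1 := by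
  obtain ⟨j, i, k, rfl⟩ := h.exists_form (hgen ▸ Subgroup.mem_top g)
  have hxz : Commute x z := h.xz
  have hyz : Commute y z := h.yz
  have hc : Commute (y ^ j * x ^ i) (z ^ k) := (hyz.zpow_zpow j k).mul_left (hxz.zpow_zpow i k)
  have hpow : ∀ {a : P}, a ^ p = 1 → ∀ i : ℤ, (a ^ i) ^ p = 1 := fun ha i => by
    rw [← zpow_natCast, zpow_comm, zpow_natCast, ha, one_zpow]
  have hs : x ^ i * y ^ j = z ^ (i * j) * y ^ j * x ^ i := by
    rw [h.swap_zpow, (((hyz.zpow_zpow j (i * j))).mul_left (hxz.zpow_zpow i (i * j))).eq]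
    group
  have hd : p ∣ p.choose 2 := hp.out.dvd_choose_self two_ne_zero
    (lt_of_le_of_ne hp.out.two_le (Ne.symm hp2))
  obtain ⟨m, hm⟩ := hd
  rw [hc.mul_pow, (CfsgLib.Coprime.mul_pow_of_central_commutator hs (hxz.zpow_zpow i (i * j)).symm
    (hyz.zpow_zpow j (i * j)).symm).2 p, hm, pow_mul (z ^ (i * j)), hpow h.zp, one_pow, hpow h.yp,
    hpow h.xp, hpow h.zp, mul_one, mul_one, mul_one]

variable [Finite P]

theorem Rel.isExtraspecial (h : Rel p x y z) (hgen : Subgroup.closure ({x, y} : Set P) = ⊤) :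
    Cfsg.IsExtraspecial p P := by
  have hcard := h.card_eq hgen
  have hPp : IsPGroup p P := IsPGroup.of_card hcard
  have hcen := h.center_eq hgen
  have hzc : ∀ g : P, g * z = z * g := fun g =>
    Subgroup.mem_center_iff.1 (hcen ▸ Subgroup.mem_zpowers z) g
  have hzC : ∀ g : P, Commute z g := fun g => (hzc g).symm
  have hzcomm : z ∈ commutator P := by
    have e : z = ⁅y⁻¹, x⁆ := by
      rw [commutatorElement_def, inv_inv]
      calc z = y⁻¹ * (x * y * x⁻¹) := by rw [h.conj]; group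
        _ = y⁻¹ * x * y * x⁻¹ := by group
    rw [e]
    exact Subgroup.commutator_mem_commutator (Subgroup.mem_top _) (Subgroup.mem_top _)
  have hΦ : frattini P ≤ Subgroup.zpowers z := by
    intro g hg
    obtain ⟨j, i, k, rfl⟩ := h.exists_form (hgen ▸ Subgroup.mem_top g)
    have hM : ∀ {a b : P}, (∀ t : P, t ∈ Subgroup.closure ({a, z} : Set P) → Commute t a) →
        ¬ Commute b a → Subgroup.closure ({a, b} : Set P) = ⊤ →
        (∀ t : P, ∃ u ∈ Subgroup.closure ({a, z} : Set P), ∃ n : ℤ, t = u * b ^ n) → b ^ p = 1 →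
        IsCoatom (Subgroup.closure ({a, z} : Set P)) := by
      intro a b hc hb hab hdec hbp
      refine ⟨fun e => hb (hc b (e ▸ Subgroup.mem_top b)), fun N hN => ?_⟩
      obtain ⟨hle, hne⟩ := Set.ssubset_iff_subset_ne.1 (SetLike.coe_ssubset_coe.2 hN)
      obtain ⟨t, htN, htM⟩ := Set.exists_of_ssubset (SetLike.coe_ssubset_coe.2 hN)
      obtain ⟨u, hu, n, rfl⟩ := hdec t
      have hn : ¬ (p : ℤ) ∣ n := fun hd => htM (by
        rw [zpow_eq_one_of_dvd hbp hd, mul_one]; exact hu)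
      have hbn : b ^ n ∈ N := by
        have := N.mul_mem (N.inv_mem (hle hu)) htN
        simpa using this
      obtain ⟨r, s, hrs⟩ : IsCoprime n (p : ℤ) :=
        ((Nat.prime_iff_prime_int.1 hp.out).coprime_iff_not_dvd.2 hn).symm
      have hbN : b ∈ N := by
        have e : b = (b ^ n) ^ r := by
          rw [← zpow_mul]
          conv_lhs => rw [← zpow_one b, ← hrs, zpow_add, mul_comm s, zpow_mul b (p : ℤ), zpow_natCast,
            hbp, one_zpow, mul_one, mul_comm r]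
        rw [e]
        exact N.zpow_mem hbn r
      rw [eq_top_iff, ← hab, Subgroup.closure_le]
      rintro w (rfl | rfl)
      · exact hle (Subgroup.subset_closure (by simp))
      · exact hbN
    have hcz : ∀ {a : P}, ∀ t ∈ Subgroup.closure ({a, z} : Set P), Commute t a := by
      intro a t ht
      have : t ∈ Subgroup.centralizer ({a} : Set P) := by
        refine (Subgroup.closure_le _).2 ?_ ht
        rintro w (rfl | rfl) <;> rw [SetLike.mem_coe, Subgroup.mem_centralizer_singleton_iff]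
        exact (hzc a).symm
      exact Subgroup.mem_centralizer_singleton_iff.1 this
    have hxy : ¬ Commute x y := fun hc => h.z1 (by
      have := h.conj
      rw [hc.eq] at this
      exact mul_left_cancel (a := y) (by rw [mul_one]; exact (this.symm.trans (by group))))
    have hx1 : IsCoatom (Subgroup.closure ({x, z} : Set P)) := by
      refine hM (b := y) hcz (fun hc => hxy hc.symm) hgen (fun t => ?_) h.yp
      obtain ⟨j, i, k, rfl⟩ := h.exists_form (hgen ▸ Subgroup.mem_top t)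
      refine ⟨x ^ i * z ^ (k - i * j), mul_mem (zpow_mem (Subgroup.subset_closure (by simp)) _)
        (zpow_mem (Subgroup.subset_closure (by simp)) _), j, ?_⟩
      rw [mul_assoc (x ^ i), ((hzC y).zpow_zpow (k - i * j) j).eq, ← mul_assoc,
        h.swap_zpow]
      group
    have hy1 : IsCoatom (Subgroup.closure ({y, z} : Set P)) := by
      refine hM (b := x) hcz hxy (by rw [Set.pair_comm]; exact hgen) (fun t => ?_) h.xp
      obtain ⟨j, i, k, rfl⟩ := h.exists_form (hgen ▸ Subgroup.mem_top t)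
      refine ⟨y ^ j * z ^ k, mul_mem (zpow_mem (Subgroup.subset_closure (by simp)) _)
        (zpow_mem (Subgroup.subset_closure (by simp)) _), i, ?_⟩
      rw [mul_assoc, mul_assoc, ((hzC x).zpow_zpow k i).eq]
    rw [h.form_z (h.x_of_comm (hcz _ (frattini_le_coatom hy1 hg)))
      (h.y_of_comm (hcz _ (frattini_le_coatom hx1 hg)))]
    exact ⟨k, rfl⟩
  have h1 : commutator P ≤ frattini P := CfsgLib.PGroup.commutator_le_frattini hPp
  have h2 : Subgroup.zpowers z ≤ commutator P := Subgroup.zpowers_le.2 hzcomm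
  refine ⟨⟨hPp, ?_, ?_⟩, ?_⟩
  · rw [hcen]; exact le_antisymm hΦ (h2.trans h1)
  · rw [hcen]; exact le_antisymm (h1.trans hΦ) h2
  · rw [hcen, Nat.card_zpowers, orderOf_eq_prime h.zp h.z1]

omit hp [Finite P] in
theorem Rel.map {Q : Type*} [Group Q] (h : Rel p x y z) (f : P →* Q) (hf : Function.Injective f) :
    Rel p (f x) (f y) (f z) where
  xp := by rw [← map_pow, h.xp, map_one]
  yp := by rw [← map_pow, h.yp, map_one]
  zp := by rw [← map_pow, h.zp, map_one]
  z1 := fun e => h.z1 (hf (e.trans (map_one f).symm))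
  xz := by rw [← map_mul, h.xz, map_mul]
  yz := by rw [← map_mul, h.yz, map_mul]
  conj := by rw [← map_inv, ← map_mul, ← map_mul, h.conj, map_mul]

/-- The generated subgroup is `E`, and a central elementary abelian `A` completes it to `P`. -/
theorem exists_prod (h : Rel p x y z) (hzc : ∀ g : P, g * z = z * g) (C : Subgroup P)
    (hCab : ∀ a ∈ C, ∀ b ∈ C, a * b = b * a) (hCp : ∀ a ∈ C, a ^ p = 1) (hyC : y ∈ C) (hzC : z ∈ C)
    (hgenC : ∀ g : P, ∃ i : ℤ, ∃ c ∈ C, g = x ^ i * c)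
    (hxC : ∀ c ∈ C, ∃ g : ℤ, x * c * x⁻¹ = c * z ^ g) :
    ∃ A : Subgroup P, (∀ a ∈ A, a ^ p = 1) ∧ (∀ a ∈ A, ∀ b ∈ A, a * b = b * a) ∧
      Nonempty (P ≃* Subgroup.closure ({x, y} : Set P) × A) := by
  let Zc : Subgroup P := C ⊓ Subgroup.center P
  obtain ⟨A, ⟨hAZ, hzA⟩, hmax⟩ :=
    (Set.toFinite {A : Subgroup P | A ≤ Zc ∧ z ∉ A}).exists_maximal
      ⟨⊥, bot_le, fun hz => h.z1 (Subgroup.mem_bot.1 hz)⟩
  have hZ : ∀ k ∈ Zc, ∃ n : ℤ, ∃ a ∈ A, k = z ^ n * a := by
    intro k hk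
    by_cases hkA : k ∈ A
    · exact ⟨0, k, hkA, by simp⟩
    have hle : A ⊔ Subgroup.zpowers k ≤ Zc := sup_le hAZ (Subgroup.zpowers_le.2 hk)
    have hz : z ∈ A ⊔ Subgroup.zpowers k := by
      by_contra hz
      exact hkA (hmax ⟨hle, hz⟩ le_sup_left (Subgroup.mem_sup_right (Subgroup.mem_zpowers k)))
    have hNA : Subgroup.zpowers k ≤ Subgroup.normalizer (A : Set P) := by
      intro g _
      refine Subgroup.mem_normalizer_iff.2 fun a => ?_
      constructor
      · intro ha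
        rw [Subgroup.mem_center_iff.1 (hAZ ha).2 g, mul_inv_cancel_right]
        exact ha
      · intro ha
        have hc := Subgroup.mem_center_iff.1 (hAZ ha).2 g
        have e : a = g⁻¹ * (g * a * g⁻¹) * g := by group
        rw [e, mul_assoc, ← hc, inv_mul_cancel_left]
        exact ha
    rw [← SetLike.mem_coe, Subgroup.coe_mul_of_right_le_normalizer_left _ _ hNA] at hz
    obtain ⟨a, ha, _, ⟨n, rfl⟩, han⟩ := Set.mem_mul.1 hz
    simp only at han
    have hn : ¬ (p : ℤ) ∣ n := fun hd => hzA (by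
      rw [← han, zpow_eq_one_of_dvd (hCp k hk.1) hd, mul_one]; exact ha)
    obtain ⟨r, s, hrs⟩ : IsCoprime n (p : ℤ) :=
      ((Nat.prime_iff_prime_int.1 hp.out).coprime_iff_not_dvd.2 hn).symm
    refine ⟨r, (a ^ r)⁻¹, A.inv_mem (A.zpow_mem ha r), ?_⟩
    have hca : Commute a (k ^ n) := (Subgroup.mem_center_iff.1 (hAZ ha).2 (k ^ n)).symm
    rw [← han, hca.mul_zpow, hca.zpow_zpow r r |>.eq, mul_inv_cancel_right, ← zpow_mul]
    conv_lhs => rw [← zpow_one k, ← hrs, zpow_add, mul_comm s, zpow_mul k (p : ℤ), zpow_natCast,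
      hCp k hk.1, one_zpow, mul_one, mul_comm r]
  have hAc : ∀ a ∈ A, ∀ g : P, g * a = a * g := fun a ha => Subgroup.mem_center_iff.1 (hAZ ha).2
  refine ⟨A, fun a ha => hCp a (hAZ ha).1, fun a ha b hb => hCab a (hAZ ha).1 b (hAZ hb).1, ?_⟩
  let f : Subgroup.closure ({x, y} : Set P) × A →* P :=
    { toFun := fun t => (t.1 : P) * t.2
      map_one' := by simp
      map_mul' := fun s t => by
        simp only [Prod.fst_mul, Prod.snd_mul, Subgroup.coe_mul]
        calc (s.1 : P) * t.1 * ((s.2 : P) * t.2) = s.1 * ((t.1 : P) * s.2) * t.2 := by group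
          _ = s.1 * ((s.2 : P) * t.1) * t.2 := by rw [hAc _ s.2.2]
          _ = s.1 * s.2 * (t.1 * t.2) := by group }
  have hf : Function.Bijective f := by
    constructor
    · refine (injective_iff_map_eq_one f).2 ?_
      rintro ⟨⟨e, he⟩, ⟨a, ha⟩⟩ hea
      change e * a = 1 at hea
      have hec : ∀ g, g * e = e * g := by
        rw [eq_inv_of_mul_eq_one_left hea]
        exact hAc _ (A.inv_mem ha)
      obtain ⟨j, i, k, rfl⟩ := h.exists_form he
      have hzk := h.form_z (h.x_of_comm (hec y).symm) (h.y_of_comm (hec x).symm) k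
      rw [hzk] at hea
      have hd : (p : ℤ) ∣ k := by
        by_contra hd
        refine hzA ?_
        obtain ⟨r, s, hrs⟩ : IsCoprime k (p : ℤ) :=
          ((Nat.prime_iff_prime_int.1 hp.out).coprime_iff_not_dvd.2 hd).symm
        have e : z = (z ^ k) ^ r := by
          rw [← zpow_mul]
          conv_lhs => rw [← zpow_one z, ← hrs, zpow_add, mul_comm s, zpow_mul z (p : ℤ), zpow_natCast,
            h.zp, one_zpow, mul_one, mul_comm r]
        rw [e, eq_inv_of_mul_eq_one_left hea]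
        exact A.zpow_mem (A.inv_mem ha) r
      rw [zpow_eq_one_of_dvd h.zp hd] at hzk hea
      rw [one_mul] at hea
      refine Prod.ext (Subtype.ext ?_) (Subtype.ext hea)
      show y ^ j * x ^ i * z ^ k = 1
      rw [zpow_eq_one_of_dvd h.zp hd]
      exact hzk
    · intro g
      obtain ⟨i, c, hc, rfl⟩ := hgenC g
      obtain ⟨m, hm⟩ := hxC c hc
      have hc' : c * y ^ (-m) ∈ Zc := by
        refine ⟨C.mul_mem hc (C.zpow_mem hyC _), Subgroup.mem_center_iff.2 fun g => ?_⟩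
        obtain ⟨i', c', hc'', rfl⟩ := hgenC g
        have hx : Commute x (c * y ^ (-m)) := by
          show x * (c * y ^ (-m)) = c * y ^ (-m) * x
          have h1 := h.swap_zpow 1 (-m)
          rw [zpow_one, one_mul] at h1
          have hxzm : x * z ^ (-m) = z ^ (-m) * x := (Commute.zpow_right h.xz (-m)).eq
          have hzm : z ^ m * y ^ (-m) = y ^ (-m) * z ^ m :=
            (Commute.zpow_zpow h.yz (-m) m).eq.symm
          calc x * (c * y ^ (-m)) = (x * c * x⁻¹) * (x * y ^ (-m)) := by group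
            _ = c * z ^ m * (y ^ (-m) * x * z ^ (-m)) := by rw [hm, h1]
            _ = c * (z ^ m * y ^ (-m)) * (x * z ^ (-m)) := by group
            _ = c * (y ^ (-m) * z ^ m) * (z ^ (-m) * x) := by rw [hzm, hxzm]
            _ = c * y ^ (-m) * x := by group
        have hc2 : Commute c' (c * y ^ (-m)) := hCab _ hc'' _ (C.mul_mem hc (C.zpow_mem hyC _))
        exact ((hx.zpow_left i').mul_left hc2).eq
      obtain ⟨n, a, ha, hna⟩ := hZ _ hc'
      refine ⟨(⟨x ^ i * (z ^ n * y ^ m), mul_mem (zpow_mem (Subgroup.subset_closure (by simp)) _)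
        (mul_mem (zpow_mem h.z_mem _) (zpow_mem (Subgroup.subset_closure (by simp)) _))⟩, ⟨a, ha⟩), ?_⟩
      show x ^ i * (z ^ n * y ^ m) * a = x ^ i * c
      rw [mul_assoc, mul_assoc (z ^ n), hAc a ha, ← mul_assoc (z ^ n), ← hna]
      group
  exact ⟨(MulEquiv.ofBijective f hf).symm⟩

end CfsgLib.GenExtraspecial
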