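import Cfsg.Agent.Fusion.Alperin.Factor
import Cfsg.Agent.GenExtraspecial.Decomp

/-!
A strongly closed subgroup with derived and Frattini subgroup of order `p` is normal in the system unless it is
the product of a group of order `p ^ 3` and an elementary abelian group.
-/

set_option autoImplicit false

namespace CfsgLib.GenExtraspecial

open CfsgLib.Fus CfsgLib.Fusion.Alperin Cfsg.FusionSystem
open scoped commutatorElement

variable {Ω : Type*} [Group Ω] {S : Subgroup Ω} [Finite S] {p : ℕ} [hp : Fact p.Prime]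
  {F : Cfsg.FusionSystem S}

theorem exists_mul_mod_eq {e : ℤ} (he : ¬ (p : ℤ) ∣ e) (r : ℤ) :
    ∃ s : ℕ, (p : ℤ) ∣ (s : ℤ) * e - r := by
  obtain ⟨a, b, hab⟩ : IsCoprime e (p : ℤ) :=
    ((Nat.prime_iff_prime_int.1 hp.out).coprime_iff_not_dvd.2 he).symm
  have hp0 : (p : ℤ) ≠ 0 := by exact_mod_cast hp.out.ne_zero
  refine ⟨((r * a) % p).toNat, -(r * b + (r * a) / p * e), ?_⟩
  rw [Int.toNat_of_nonneg (Int.emod_nonneg _ hp0)]
  linear_combination (Int.emod_add_mul_ediv (r * a) p) * e + r * hab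

omit hp in
theorem zpow_eq_zpow_of_dvd {g : Ω} (hg : g ^ p = 1) {i j : ℤ} (h : (p : ℤ) ∣ i - j) :
    g ^ i = g ^ j := by
  rw [show i = (i - j) + j by ring, zpow_add, zpow_eq_one_of_dvd hg h, one_mul]

omit hp [Finite S] in
/-- Extending an automorphism of a fully normalized subgroup over an element it normalizes modulo `Aut_S`. -/
theorem exists_conj_image {C : Subgroup Ω} (hrec : F.IsReceptive C) {P : Subgroup Ω}
    (hP : F.StronglyClosed P) {x : Ω} (hx : x ∈ P) (hxN : x ∈ Subgroup.normalizer (C : Set Ω))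
    {c : MulAut C} (hc : c ∈ F.autGroup C) (h : c * conjAut hxN * c⁻¹ ∈ Cfsg.autInducedBy S C) :
    ∃ g ∈ P, (∀ k : C, (((c * conjAut hxN * c⁻¹) k : C) : Ω) = g * (k : Ω) * g⁻¹) ∧
      ∀ (n : ℕ) (hn : x ^ n ∈ C), g ^ n = ((c ⟨x ^ n, hn⟩ : C) : Ω) := by
  have hφ : C.subtype.comp c.toMonoidHom ∈ F.Hom C := (mem_autGroup_iff F hrec.1).1 hc
  have hr : (C.subtype.comp c.toMonoidHom).range = C := range_subtype_comp c
  have hxE : x ∈ extender S C (C.subtype.comp c.toMonoidHom) := by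
    refine mem_extender_of_congr hφ hr (hP.1 hx) hxN ?_
    have e : isoOf hφ hr = c := MulEquiv.ext fun k => Subtype.ext rfl
    rw [e]
    exact h
  obtain ⟨ψ, hψ, hext⟩ := exists_ext hrec hφ hr (le_extender F hφ) le_rfl
  refine ⟨ψ ⟨x, hxE⟩, map_mem_of_stronglyClosed hP hψ hx, fun k => ?_, fun n hn => ?_⟩
  · show ((c (conjAut hxN (c⁻¹ k)) : C) : Ω) = _
    have h1 := hext (conjAut hxN (c⁻¹ k))
    have h2 := hext (c⁻¹ k)
    have h3 : ((c (c⁻¹ k) : C) : Ω) = k := by rw [MulAut.inv_def, MulEquiv.apply_symm_apply]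
    calc ((c (conjAut hxN (c⁻¹ k)) : C) : Ω)
        = ψ (Subgroup.inclusion (le_extender F hφ) (conjAut hxN (c⁻¹ k))) := h1.symm
      _ = ψ (⟨x, hxE⟩ * Subgroup.inclusion (le_extender F hφ) (c⁻¹ k) * ⟨x, hxE⟩⁻¹) :=
          congrArg ψ (Subtype.ext rfl)
      _ = _ := by
          rw [map_mul, map_mul, map_inv, h2]
          exact congrArg (fun w => ψ ⟨x, hxE⟩ * w * (ψ ⟨x, hxE⟩)⁻¹) h3
  · rw [← map_pow]
    exact (congrArg ψ (Subtype.ext rfl)).trans (hext ⟨x ^ n, hn⟩)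

/-- A map sending `z` outside `⟨z⟩` gives an elementary abelian centralizer of index `p`. -/
theorem centralizer_elementary (hS : IsPGroup p S) (hF : F.IsSaturated p) {P : Subgroup Ω}
    (hP : F.StronglyClosed P) {z : Ω} (hzS : z ∈ S) (hz1 : z ≠ 1) (hzp : z ^ p = 1)
    (hzc : ∀ g ∈ S, g * z = z * g) (hcomm : ∀ a ∈ P, ∀ b ∈ P, ⁅a, b⁆ ∈ Subgroup.zpowers z)
    (hpow : ∀ a ∈ P, a ^ p ∈ Subgroup.zpowers z) {φ : Subgroup.zpowers z →* Ω}
    (hφ : φ ∈ F.Hom (Subgroup.zpowers z)) (hzP : z ∈ P) {y : Ω}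
    (hy : φ ⟨z, Subgroup.mem_zpowers z⟩ = y) (hy0 : y ∉ Subgroup.zpowers z) :
    y ∈ P ∧ y ^ p = 1 ∧ (∀ a ∈ P, ∀ b ∈ P, a * y = y * a → b * y = y * b → a * b = b * a) ∧
      ∀ a ∈ P, a * y = y * a → a ^ p = 1 := by
  have hZS : Subgroup.zpowers z ≤ S := Subgroup.zpowers_le.2 hzS
  have hyP : y ∈ P := hy ▸ map_mem_of_stronglyClosed hP hφ hzP
  have hyp : y ^ p = 1 := by
    rw [← hy, ← map_pow, show (⟨z, Subgroup.mem_zpowers z⟩ : Subgroup.zpowers z) ^ p = 1 from
      Subtype.ext hzp, map_one]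
  have hr : φ.range = Subgroup.zpowers y := by
    apply le_antisymm
    · rintro _ ⟨⟨_, n, rfl⟩, rfl⟩
      refine ⟨n, ?_⟩
      show y ^ n = _
      rw [← hy, ← map_zpow]
      rfl
    · exact Subgroup.zpowers_le.2 ⟨_, hy⟩
  obtain ⟨ψ, hψ, hψr, hψφ, -⟩ := exists_inv F hφ hr
  have hN : normalizerIn S (Subgroup.zpowers z) = S := by
    refine le_antisymm inf_le_left fun g hg => ⟨hg, Subgroup.mem_normalizer_iff.2 fun h => ?_⟩
    have hcz : ∀ n : ℤ, g * z ^ n * g⁻¹ = z ^ n := fun n => by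
      rw [((Commute.zpow_right (show Commute g z from hzc g hg) n)).eq, mul_inv_cancel_right]
    constructor
    · rintro ⟨n, rfl⟩
      exact ⟨n, (hcz n).symm⟩
    · rintro ⟨n, hn⟩
      refine ⟨n, ?_⟩
      have e : h = g⁻¹ * (g * h * g⁻¹) * g := by group
      rw [e, ← hn]
      show z ^ n = g⁻¹ * z ^ n * g
      conv_lhs => rw [← hcz n]
      have := hcz n
      calc g * z ^ n * g⁻¹ = z ^ n := this
        _ = g⁻¹ * (g * z ^ n * g⁻¹) * g := by group
        _ = g⁻¹ * z ^ n * g := by rw [this]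
  have hfn : F.IsFullyNormalized (Subgroup.zpowers z) :=
    ⟨hZS, fun Q _ => hN.symm ▸ Subgroup.card_le_of_le (normalizerIn_le Q)⟩
  obtain ⟨χ, hχ, hext⟩ := exists_ext (fullyNormalized_props hS hF hfn).2 hψ hψr
    (le_extender F hψ) le_rfl
  have hmem : ∀ a ∈ P, a * y = y * a → a ∈ extender S (Subgroup.zpowers y) ψ := by
    refine fun a ha hay => centralizerIn_le_extender ⟨hP.1 ha, fun w hw => ?_⟩
    obtain ⟨n, rfl⟩ := hw
    exact (Commute.zpow_left (show Commute y a from hay.symm) n).eq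
  have hχy : χ ⟨y, hmem y hyP rfl⟩ = z := by
    refine (hext ⟨y, Subgroup.mem_zpowers y⟩).trans ?_
    have e : (⟨y, Subgroup.mem_zpowers y⟩ : Subgroup.zpowers y) =
        ⟨φ ⟨z, Subgroup.mem_zpowers z⟩, hr ▸ ⟨_, rfl⟩⟩ := Subtype.ext hy.symm
    rw [e]
    exact hψφ _ _
  have key : ∀ (w : extender S (Subgroup.zpowers y) ψ), (w : Ω) ∈ Subgroup.zpowers z →
      χ w ∈ Subgroup.zpowers z → (w : Ω) = 1 := by
    rintro w ⟨n, hn⟩ ⟨m, hm⟩
    have hw : w = ⟨y, hmem y hyP rfl⟩ ^ m := by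
      apply F.injective_of_mem hχ
      rw [map_zpow, hχy]
      exact hm.symm
    have hwy : (w : Ω) = y ^ m := by rw [hw]; rfl
    by_cases hd : (p : ℤ) ∣ m
    · rw [hwy, zpow_eq_one_of_dvd hyp hd]
    · obtain ⟨s, hs⟩ := exists_mul_mod_eq hd 1
      refine absurd ?_ hy0
      have e : y = (y ^ m) ^ (s : ℤ) := by
        rw [← zpow_mul, mul_comm, zpow_eq_zpow_of_dvd hyp hs, zpow_one]
      rw [e, ← hwy, ← hn]
      exact ⟨n * s, by simp [zpow_mul]⟩
  refine ⟨hyP, hyp, fun a ha b hb hay hby => ?_, fun a ha hay => ?_⟩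
  · rw [← commutatorElement_eq_one_iff_mul_comm]
    refine key ⁅(⟨a, hmem a ha hay⟩ : extender S (Subgroup.zpowers y) ψ), ⟨b, hmem b hb hby⟩⁆
      (hcomm a ha b hb) ?_
    rw [map_commutatorElement]
    exact hcomm _ (map_mem_of_stronglyClosed hP hχ ha) _ (map_mem_of_stronglyClosed hP hχ hb)
  · refine key ((⟨a, hmem a ha hay⟩ : extender S (Subgroup.zpowers y) ψ) ^ p) (hpow a ha) ?_
    rw [map_pow]
    exact hpow _ (map_mem_of_stronglyClosed hP hχ ha)

/-- The main alternative. -/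
theorem isNormal_or_decomp (hS : IsPGroup p S) (hF : F.IsSaturated p) {P : Subgroup Ω}
    (hP : F.StronglyClosed P) {z : Ω} (hzP : z ∈ P) (hz1 : z ≠ 1) (hzp : z ^ p = 1)
    (hzc : ∀ g ∈ S, g * z = z * g) (hcomm : ∀ a ∈ P, ∀ b ∈ P, ⁅a, b⁆ ∈ Subgroup.zpowers z)
    (hpow : ∀ a ∈ P, a ^ p ∈ Subgroup.zpowers z) (hnab : ∃ a ∈ P, ∃ b ∈ P, a * b ≠ b * a) :
    F.IsNormal P ∨ ∃ (x y w : P) (A : Subgroup P), Rel p x y w ∧ (∀ a ∈ A, a ^ p = 1) ∧
      (∀ a ∈ A, ∀ b ∈ A, a * b = b * a) ∧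
      Nonempty (P ≃* Subgroup.closure ({x, y} : Set P) × A) := by
  have hPfin := finite_of_le hP.1
  have hzS := hP.1 hzP
  have hZP : Subgroup.zpowers z ≤ P := Subgroup.zpowers_le.2 hzP
  by_cases hsc : F.StronglyClosed (Subgroup.zpowers z)
  · refine Or.inl (isNormal_of_series hS hF hP 2
      (fun i => if i = 0 then ⊥ else if i = 1 then Subgroup.zpowers z else P) (by simp) (by simp)
      ?_ (fun i _ => ?_) fun i hi g hg a ha => ?_)
    · intro i j hij
      rcases i with _ | _ | i <;> rcases j with _ | _ | j <;>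
        first
          | omega
          | simp [hZP]
    · rcases i with _ | _ | i
      · simpa using stronglyClosed_of_isNormal (isNormal_bot F)
      · simpa using hsc
      · simpa using hP
    · obtain rfl | rfl : i = 0 ∨ i = 1 := by omega
      · obtain ⟨n, rfl⟩ : a ∈ Subgroup.zpowers z := by simpa using ha
        have e : (z ^ n)⁻¹ * (g * z ^ n * g⁻¹) = 1 := by
          rw [(Commute.zpow_right (show Commute g z from hzc g (hP.1 hg)) n).eq]
          group
        simp [e]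
      · replace ha : a ∈ P := by simpa using ha
        have h := hcomm a⁻¹ (P.inv_mem ha) g hg
        rw [commutatorElement_def, inv_inv] at h
        simpa [mul_assoc] using h
  obtain ⟨φ, hφ, hy0⟩ : ∃ φ ∈ F.Hom (Subgroup.zpowers z),
      φ ⟨z, Subgroup.mem_zpowers z⟩ ∉ Subgroup.zpowers z := by
    by_contra hne
    push Not at hne
    refine hsc ⟨hZP.trans hP.1, fun R hR φ hφ r => ?_⟩
    obtain ⟨n, hn⟩ := hR r.2
    change z ^ n = (r : Ω) at hn
    by_cases hd : (p : ℤ) ∣ n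
    · rw [zpow_eq_one_of_dvd hzp hd] at hn
      rw [show r = 1 from Subtype.ext hn.symm, map_one]
      exact one_mem _
    · obtain ⟨s, hs⟩ := exists_mul_mod_eq hd 1
      have hzR : z ∈ R := by
        have e : z = (r : Ω) ^ (s : ℤ) := by
          rw [← hn, ← zpow_mul, mul_comm, zpow_eq_zpow_of_dvd hzp hs, zpow_one]
        rw [e]
        exact R.zpow_mem r.2 _
      have h := hne _ (restrict_mem F hφ (Subgroup.zpowers_le.2 hzR))
      have e : r = (⟨z, hzR⟩ : R) ^ n := Subtype.ext (by rw [Subgroup.coe_zpow]; exact hn.symm)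
      rw [e, map_zpow]
      exact zpow_mem h _
  obtain ⟨y, hy⟩ : ∃ y, φ ⟨z, Subgroup.mem_zpowers z⟩ = y := ⟨_, rfl⟩
  rw [hy] at hy0
  obtain ⟨hyP, hyp, hCab, hCp⟩ :=
    centralizer_elementary hS hF hP hzS hz1 hzp hzc hcomm hpow hφ hzP hy hy0
  have hshift : ∀ g ∈ P, ∀ k ∈ P, ∃ m : ℤ, g * k * g⁻¹ = k * z ^ m := by
    intro g hg k hk
    obtain ⟨m, hm⟩ := hcomm k⁻¹ (P.inv_mem hk) g hg
    refine ⟨m, ?_⟩
    change z ^ m = _ at hm
    rw [hm, commutatorElement_def]
    group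
  have hzcP : ∀ g ∈ P, g * z = z * g := fun g hg => hzc g (hP.1 hg)
  -- normalizing an element outside the centralizer
  have hnorm : ∀ x₀ ∈ P, x₀ * y ≠ y * x₀ → ∃ i : ℕ, (x₀ ^ i) * y * (x₀ ^ i)⁻¹ = y * z := by
    intro x₀ hx₀ hne
    obtain ⟨e, he⟩ := hshift x₀ hx₀ y hyP
    have hed : ¬ (p : ℤ) ∣ e := fun hd => hne (by
      rw [zpow_eq_one_of_dvd hzp hd, mul_one, mul_inv_eq_iff_eq_mul] at he
      exact he)
    obtain ⟨i, hi⟩ := exists_mul_mod_eq hed 1
    refine ⟨i, ?_⟩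
    have key : ∀ i : ℕ, x₀ ^ i * y * (x₀ ^ i)⁻¹ = y * z ^ ((i : ℤ) * e) := by
      intro i
      induction i with
      | zero => simp
      | succ i ih =>
        have hc : x₀ ^ i * z ^ e = z ^ e * x₀ ^ i :=
          ((Commute.zpow_right (show Commute x₀ z from hzcP x₀ hx₀) e).pow_left i).eq
        calc x₀ ^ (i + 1) * y * (x₀ ^ (i + 1))⁻¹ = x₀ ^ i * (x₀ * y * x₀⁻¹) * (x₀ ^ i)⁻¹ := by
              rw [pow_succ]; group
          _ = x₀ ^ i * y * (x₀ ^ i)⁻¹ * z ^ e := by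
              rw [he, ← mul_assoc, mul_assoc (x₀ ^ i * y), mul_assoc (x₀ ^ i * y), ← inv_pow,
                ((Commute.zpow_right (show Commute x₀ z from hzcP x₀ hx₀) e).inv_left.pow_left i).eq]
          _ = y * z ^ (((i + 1 : ℕ) : ℤ) * e) := by
              rw [ih, mul_assoc, ← zpow_add]
              push_cast
              ring_nf
    rw [key, zpow_eq_zpow_of_dvd hzp hi, zpow_one]
  obtain ⟨x₁, hx₁, hx₁y⟩ : ∃ x₁ ∈ P, x₁ * y ≠ y * x₁ := by
    by_contra hne
    push Not at hne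
    obtain ⟨a, ha, b, hb, hab⟩ := hnab
    exact hab (hCab a ha b hb (hne a ha) (hne b hb))
  have hgenP : ∀ x : Ω, x ∈ P → x * y * x⁻¹ = y * z → ∀ g ∈ P,
      ∃ i : ℕ, (x ^ i)⁻¹ * g * y = y * ((x ^ i)⁻¹ * g) := by
    intro x hx hxy g hg
    obtain ⟨m, hm⟩ := hshift g hg y hyP
    obtain ⟨i, hi⟩ := exists_mul_mod_eq (show ¬ (p : ℤ) ∣ 1 from fun h =>
      hp.out.ne_one (by exact_mod_cast Int.eq_one_of_dvd_one (by omega) h)) m
    rw [mul_one] at hi
    have key : ∀ i : ℕ, x ^ i * y * (x ^ i)⁻¹ = y * z ^ (i : ℤ) := by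
      intro i
      induction i with
      | zero => simp
      | succ i ih =>
        have hc := ((show Commute x z from hzcP x hx).inv_left.pow_left i).eq
        calc x ^ (i + 1) * y * (x ^ (i + 1))⁻¹ = x ^ i * (x * y * x⁻¹) * (x ^ i)⁻¹ := by
              rw [pow_succ]; group
          _ = x ^ i * y * ((x⁻¹) ^ i * z) := by rw [hxy, hc, inv_pow]; group
          _ = x ^ i * y * (x ^ i)⁻¹ * z := by rw [inv_pow]; group
          _ = y * z ^ ((i + 1 : ℕ) : ℤ) := by
              rw [ih, mul_assoc, zpow_natCast, zpow_natCast, ← pow_succ]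
    refine ⟨i, ?_⟩
    have h1 := key i
    rw [zpow_eq_zpow_of_dvd hzp hi, ← hm] at h1
    calc (x ^ i)⁻¹ * g * y = (x ^ i)⁻¹ * (g * y * g⁻¹) * g := by group
      _ = (x ^ i)⁻¹ * (x ^ i * y * (x ^ i)⁻¹) * g := by rw [h1]
      _ = y * ((x ^ i)⁻¹ * g) := by group
  by_cases hA : ∃ x₀ ∈ P, x₀ * y ≠ y * x₀ ∧ x₀ ^ p = 1
  · -- the decomposition
    obtain ⟨x₀, hx₀, hne, hx₀p⟩ := hA
    obtain ⟨i, hi⟩ := hnorm x₀ hx₀ hne
    have hxP := P.pow_mem hx₀ i
    refine Or.inr ?_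
    let C : Subgroup P := Subgroup.centralizer ({⟨y, hyP⟩} : Set P)
    have hC : ∀ a : P, a ∈ C ↔ (a : Ω) * y = y * a := fun a => by
      rw [Subgroup.mem_centralizer_singleton_iff]
      exact ⟨fun h => congrArg Subtype.val h, fun h => Subtype.ext h⟩
    have hrel : Rel p (⟨x₀ ^ i, hxP⟩ : P) ⟨y, hyP⟩ ⟨z, hzP⟩ :=
      { xp := Subtype.ext (show (x₀ ^ i) ^ p = 1 by rw [← pow_mul, mul_comm, pow_mul, hx₀p, one_pow])
        yp := Subtype.ext hyp
        zp := Subtype.ext hzp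
        z1 := fun e => hz1 (congrArg Subtype.val e)
        xz := Subtype.ext (hzcP _ hxP)
        yz := Subtype.ext (hzcP _ hyP)
        conj := Subtype.ext hi }
    obtain ⟨A, hAp, hAab, hiso⟩ := exists_prod hrel (fun g => Subtype.ext (hzcP g g.2)) C
      (fun a ha b hb => Subtype.ext (hCab a a.2 b b.2 ((hC a).1 ha) ((hC b).1 hb)))
      (fun a ha => Subtype.ext (hCp a a.2 ((hC a).1 ha))) ((hC _).2 rfl)
      ((hC _).2 (hzcP y hyP).symm)
      (fun g => by
        obtain ⟨j, hj⟩ := hgenP _ hxP hi g g.2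
        refine ⟨j, ⟨_, P.mul_mem (P.inv_mem (P.pow_mem hxP j)) g.2⟩, (hC _).2 hj, Subtype.ext ?_⟩
        simp)
      (fun c _ => by
        obtain ⟨m, hm⟩ := hshift _ hxP c c.2
        exact ⟨m, Subtype.ext (by simpa using hm)⟩)
    exact ⟨_, _, _, A, hrel, hAp, hAab, hiso⟩
  -- the elements of order dividing `p` form the centralizer of `y`, which is then normal
  push Not at hA
  exfalso
  let C : Subgroup Ω := P ⊓ Subgroup.centralizer ({y} : Set Ω)
  have hC : ∀ a, a ∈ C ↔ a ∈ P ∧ a * y = y * a := fun a => by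
    show a ∈ P ∧ a ∈ Subgroup.centralizer ({y} : Set Ω) ↔ _
    rw [Subgroup.mem_centralizer_singleton_iff]
  have hCp' : ∀ a ∈ P, a ^ p = 1 → a ∈ C := fun a ha hap =>
    (hC a).2 ⟨ha, by_contra fun h => hA a ha h hap⟩
  have hCS : C ≤ S := inf_le_left.trans hP.1
  have hCfin := finite_of_le hCS
  have := finite_mulAut C
  have hCsc : F.StronglyClosed C := by
    refine ⟨hCS, fun R hR φ hφ r => hCp' _ (map_mem_of_stronglyClosed hP hφ (hR r.2).1) ?_⟩
    have hr := (hC _).1 (hR r.2)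
    rw [← map_pow, show r ^ p = 1 from Subtype.ext (hCp _ hr.1 hr.2), map_one]
  have hCn : F.IsNormal C := isNormal_of_stronglyClosed_comm hS hF hCsc fun a ha b hb =>
    hCab a ha.1 b hb.1 ((hC a).1 ha).2 ((hC b).1 hb).2
  have hCN := le_normalizer_of_stronglyClosed hCsc
  have : Finite (normalizerIn S C) := finite_of_le (normalizerIn_le C)
  have hCfn : F.IsFullyNormalized C := ⟨hCS, fun Q _ => Subgroup.card_le_of_le
    ((normalizerIn_le Q).trans (le_inf le_rfl hCN))⟩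
  obtain ⟨hauto, hrec⟩ := fullyNormalized_props hS hF hCfn
  have hzC : z ∈ C := (hC z).2 ⟨hzP, (hzcP y hyP).symm⟩
  have hyC : y ∈ C := (hC y).2 ⟨hyP, rfl⟩
  obtain ⟨a, ha, haz⟩ : ∃ a ∈ F.autGroup C, ((a ⟨z, hzC⟩ : C) : Ω) = y := by
    obtain ⟨ψ, hψ, hψe, hψQ⟩ := hCn.2 _ φ hφ
    have hr : (ψ.comp (Subgroup.inclusion (le_sup_right : C ≤ Subgroup.zpowers z ⊔ C))).range = C := by
      apply le_antisymm
      · rintro _ ⟨c, rfl⟩
        exact hψQ.le ⟨_, c.2, rfl⟩
      · intro c hc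
        obtain ⟨u, hu, huc⟩ := hψQ.ge hc
        exact ⟨⟨u, hu⟩, (congrArg ψ (Subtype.ext rfl)).trans huc⟩
    refine ⟨_, isoOf_mem_autGroup (restrict_mem F hψ le_sup_right) hr, ?_⟩
    show ψ _ = y
    rw [← hy, ← hψe]
    exact congrArg ψ (Subtype.ext rfl)
  obtain ⟨i₁, hxy⟩ := hnorm x₁ hx₁ hx₁y
  obtain ⟨x, hxdef⟩ : ∃ x, x₁ ^ i₁ = x := ⟨_, rfl⟩
  rw [hxdef] at hxy
  have hxP : x ∈ P := hxdef ▸ P.pow_mem hx₁ i₁
  have hxN : x ∈ Subgroup.normalizer (C : Set Ω) := hCN (hP.1 hxP)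
  have hxC : x * y ≠ y * x := fun h => hz1 (by
    rw [h, mul_inv_cancel_right] at hxy
    exact mul_left_cancel (a := y) (by rw [mul_one]; exact hxy.symm))
  let u : MulAut C := conjAut hxN
  let Z : C := ⟨z, hzC⟩
  let Y : C := ⟨y, hyC⟩
  have huF : u ∈ F.autGroup C :=
    autInducedBy_le_autGroup F hCS (conjAut_mem_autInducedBy hxN (hP.1 hxP))
  have hC_comm : ∀ k l : C, k * l = l * k := fun k l =>
    Subtype.ext (hCab k k.2.1 l l.2.1 ((hC k).1 k.2).2 ((hC l).1 l.2).2)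
  have hC_pow : ∀ k : C, k ^ p = 1 := fun k => Subtype.ext (hCp k k.2.1 ((hC k).1 k.2).2)
  have huZ : u Z = Z := Subtype.ext (show x * z * x⁻¹ = z by rw [hzcP x hxP, mul_inv_cancel_right])
  have huY : u Y = Y * Z := Subtype.ext hxy
  have hu : ∀ k : C, ∃ m : ℤ, u k = k * Z ^ m := fun k => by
    obtain ⟨m, hm⟩ := hshift x hxP k k.2.1
    exact ⟨m, Subtype.ext (by simpa [u, Z] using hm)⟩
  have haZ : a Z = Y := Subtype.ext haz
  let v : MulAut C := a * u * a⁻¹
  have hv : ∀ k : C, ∃ m : ℤ, v k = k * Y ^ m := fun k => by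
    obtain ⟨m, hm⟩ := hu (a⁻¹ k)
    refine ⟨m, ?_⟩
    show a (u (a⁻¹ k)) = _
    rw [hm, map_mul, map_zpow, haZ, MulAut.inv_def, MulEquiv.apply_symm_apply]
  have hvY : v Y = Y := by
    show a (u (a⁻¹ Y)) = Y
    have e : a⁻¹ Y = Z := by rw [← haZ, MulAut.inv_def, MulEquiv.symm_apply_apply]
    rw [e, huZ, haZ]
  have hZY : ∀ {n : ℤ}, Y ^ n ∈ Subgroup.zpowers Z → (p : ℤ) ∣ n := by
    intro n hn
    by_contra hd
    obtain ⟨s, hs⟩ := exists_mul_mod_eq hd 1
    obtain ⟨m, hm⟩ := hn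
    refine hy0 ⟨m * s, ?_⟩
    have h2 := congrArg Subtype.val hm
    simp only [Subgroup.coe_zpow] at h2
    show z ^ (m * (s : ℤ)) = y
    rw [zpow_mul, show z ^ m = y ^ n from h2, ← zpow_mul, mul_comm, zpow_eq_zpow_of_dvd hyp hs,
      zpow_one]
  -- conjugates of `u` lying in `Aut_S(C)` are powers of `u`
  have hweak : ∀ c ∈ F.autGroup C, c * u * c⁻¹ ∈ Cfsg.autInducedBy S C →
      ∃ j : ℕ, c * u * c⁻¹ = u ^ j := by
    intro c hc h
    obtain ⟨g, hg, hgk, -⟩ := exists_conj_image hrec hP hxP hxN hc h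
    obtain ⟨j, hj⟩ := hgenP x hxP hxy g hg
    refine ⟨j, MulEquiv.ext fun k => Subtype.ext ?_⟩
    refine (hgk k).trans ?_
    have hpow : ∀ j : ℕ, (((u ^ j) k : C) : Ω) = x ^ j * (k : Ω) * (x ^ j)⁻¹ := by
      intro j
      induction j generalizing k with
      | zero => simp
      | succ j ih =>
        rw [pow_succ, MulAut.mul_apply, ih, pow_succ]
        show x ^ j * (x * (k : Ω) * x⁻¹) * (x ^ j)⁻¹ = _
        group
    rw [hpow]
    have hcm : (x ^ j)⁻¹ * g * (k : Ω) = k * ((x ^ j)⁻¹ * g) :=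
      hCab _ (P.mul_mem (P.inv_mem (P.pow_mem hxP j)) hg) k k.2.1 hj ((hC k).1 k.2).2
    calc g * (k : Ω) * g⁻¹ = x ^ j * ((x ^ j)⁻¹ * g * (k : Ω)) * g⁻¹ := by group
      _ = x ^ j * (k : Ω) * (x ^ j)⁻¹ := by rw [hcm]; group
  have hvZ : v Z ≠ Z := by
    intro hvZ
    let St : Subgroup (MulAut C) :=
      { carrier := {α | α Z = Z ∧ (∃ n : ℤ, α Y = Y * Z ^ n) ∧ ∀ k, ∃ i j : ℤ, α k = k * Z ^ i * Y ^ j}
        one_mem' := ⟨rfl, ⟨0, by simp⟩, fun k => ⟨0, 0, by simp⟩⟩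
        mul_mem' := by
          rintro α β ⟨hαZ, ⟨n, hαY⟩, hα⟩ ⟨hβZ, ⟨m, hβY⟩, hβ⟩
          refine ⟨by rw [MulAut.mul_apply, hβZ, hαZ], ⟨n + m, ?_⟩, fun k => ?_⟩
          · rw [MulAut.mul_apply, hβY, map_mul, map_zpow, hαY, hαZ, mul_assoc, ← zpow_add]
          · obtain ⟨i, j, hk⟩ := hβ k
            obtain ⟨i', j', hk'⟩ := hα k
            have hcomm' : Commute Y Z := hC_comm Y Z
            refine ⟨i' + i + n * j, j' + j, ?_⟩
            rw [MulAut.mul_apply, hk, map_mul, map_mul, map_zpow, map_zpow, hαZ, hαY, hk',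
              (hcomm'.zpow_right n).mul_zpow, ← zpow_mul]
            calc k * Z ^ i' * Y ^ j' * Z ^ i * (Y ^ j * Z ^ (n * j))
                = k * Z ^ i' * (Y ^ j' * Z ^ i) * (Y ^ j * Z ^ (n * j)) := by group
              _ = k * Z ^ i' * (Z ^ i * Y ^ j') * (Z ^ (n * j) * Y ^ j) := by
                  rw [hC_comm (Y ^ j') (Z ^ i), hC_comm (Y ^ j) (Z ^ (n * j))]
              _ = k * Z ^ (i' + i) * (Y ^ j' * Z ^ (n * j)) * Y ^ j := by group
              _ = k * Z ^ (i' + i) * (Z ^ (n * j) * Y ^ j') * Y ^ j := by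
                  rw [hC_comm (Y ^ j') (Z ^ (n * j))]
              _ = _ := by group
        inv_mem' := by
          rintro α ⟨hαZ, ⟨n, hαY⟩, hα⟩
          have hsymm : ∀ {b c : C}, α b = c → α⁻¹ c = b := fun h => by
            rw [← h, MulAut.inv_def, MulEquiv.symm_apply_apply]
          refine ⟨hsymm hαZ, ⟨-n, hsymm ?_⟩, fun k => ?_⟩
          · rw [map_mul, map_zpow, hαY, hαZ]
            group
          · obtain ⟨i, j, hk⟩ := hα (α⁻¹ k)
            rw [MulAut.inv_def, MulEquiv.apply_symm_apply] at hk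
            refine ⟨-i, -j, ?_⟩
            have e : α⁻¹ k = k * (Z ^ i * Y ^ j)⁻¹ := by
              rw [eq_mul_inv_iff_mul_eq, ← mul_assoc]
              exact hk.symm
            rw [e, mul_inv_rev, hC_comm (Y ^ j)⁻¹, ← mul_assoc, ← zpow_neg, ← zpow_neg] }
    have hX : Subgroup.closure ({u, v} : Set (MulAut C)) ≤ St := by
      rw [Subgroup.closure_le]
      rintro α (rfl | rfl)
      · refine ⟨huZ, ⟨1, by rw [zpow_one]; exact huY⟩, fun k => ?_⟩
        obtain ⟨m, hm⟩ := hu k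
        exact ⟨m, 0, by rw [hm, zpow_zero, mul_one]⟩
      · refine ⟨hvZ, ⟨0, by rw [zpow_zero, mul_one]; exact hvY⟩, fun k => ?_⟩
        obtain ⟨m, hm⟩ := hv k
        exact ⟨0, m, by rw [hm, zpow_zero, mul_one]⟩
    have hXp : IsPGroup p (Subgroup.closure ({u, v} : Set (MulAut C))) := by
      rintro ⟨α, hα⟩
      obtain ⟨hαZ, ⟨n, hαY⟩, hαk⟩ := hX hα
      obtain ⟨k, hk⟩ := exists_pow_eq_one_of_stabilizes (hS.to_le hCS) 3
        (fun i => if i = 0 then ⊥ else if i = 1 then Subgroup.zpowers z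
          else if i = 2 then Subgroup.zpowers z ⊔ Subgroup.zpowers y else C)
        (by simp) (by simp) (by
          intro i j hij
          have h1 : Subgroup.zpowers z ≤ C := Subgroup.zpowers_le.2 hzC
          have h2 : Subgroup.zpowers y ≤ C := Subgroup.zpowers_le.2 hyC
          rcases i with _ | _ | _ | i <;> rcases j with _ | _ | _ | j <;>
            first
              | omega
              | simp [h1, h2]) (α := α) (fun i hi k hk => by
          obtain rfl | rfl | rfl : i = 0 ∨ i = 1 ∨ i = 2 := by omega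
          · obtain ⟨m, hm⟩ : (k : Ω) ∈ Subgroup.zpowers z := by simpa using hk
            have e : k = Z ^ m := Subtype.ext (by simpa [Z] using hm.symm)
            simp [e, map_zpow, hαZ]
          · have hk' : (k : Ω) ∈ Subgroup.zpowers z ⊔ Subgroup.zpowers y := by simpa using hk
            have hk2 : k ∈ Subgroup.zpowers Z ⊔ Subgroup.zpowers Y := by
              have : (Subgroup.zpowers Z ⊔ Subgroup.zpowers Y).map C.subtype =
                  Subgroup.zpowers z ⊔ Subgroup.zpowers y := by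
                rw [Subgroup.map_sup, MonoidHom.map_zpowers, MonoidHom.map_zpowers]
                rfl
              rw [← this] at hk'
              obtain ⟨k', hk'', e⟩ := hk'
              exact (Subtype.ext e : k' = k) ▸ hk''
            let dlt : C →* C :=
              { toFun := fun w => w⁻¹ * α w
                map_one' := by simp
                map_mul' := fun a b => by
                  rw [map_mul, mul_inv_rev]
                  calc b⁻¹ * a⁻¹ * (α a * α b) = b⁻¹ * (a⁻¹ * α a) * α b := by group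
                    _ = (a⁻¹ * α a) * b⁻¹ * α b := by rw [hC_comm b⁻¹]
                    _ = _ := by group }
            have hle : Subgroup.zpowers Z ⊔ Subgroup.zpowers Y ≤
                Subgroup.comap dlt (Subgroup.zpowers Z) := by
              refine sup_le (Subgroup.zpowers_le.2 ?_) (Subgroup.zpowers_le.2 ?_) <;>
                simp only [Subgroup.mem_comap, dlt, MonoidHom.coe_mk, OneHom.coe_mk]
              · rw [hαZ, inv_mul_cancel]; exact one_mem _
              · exact ⟨n, by rw [hαY]; group⟩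
            obtain ⟨m, hm⟩ := hle hk2
            change Z ^ m = k⁻¹ * α k at hm
            have h2 := congrArg Subtype.val hm
            simp only [Subgroup.coe_zpow, Subgroup.coe_mul, Subgroup.coe_inv] at h2
            simp only [one_ne_zero, if_false, if_true]
            exact ⟨m, h2⟩
          · obtain ⟨i, j, hk'⟩ := hαk k
            simp only [OfNat.ofNat_ne_zero, if_false, OfNat.ofNat_ne_one, if_true]
            rw [hk', Subgroup.coe_mul, Subgroup.coe_mul, mul_assoc (k : Ω), inv_mul_cancel_left]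
            exact mul_mem (Subgroup.mem_sup_left ⟨i, by simp [Z]⟩)
              (Subgroup.mem_sup_right ⟨j, by simp [Y]⟩))
      exact ⟨k, Subtype.ext hk⟩
    have hXF : Subgroup.closure ({u, v} : Set (MulAut C)) ≤ F.autGroup C := by
      rw [Subgroup.closure_le]
      rintro α (rfl | rfl)
      · exact huF
      · exact mul_mem (mul_mem ha huF) (inv_mem ha)
    obtain ⟨b, hb, hbX⟩ := exists_conj_into_autS hauto hXF hXp
    obtain ⟨i, hi⟩ := hweak b hb (hbX u (Subgroup.subset_closure (by simp)))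
    obtain ⟨j, hj⟩ := hweak (b * a) (mul_mem hb ha) (by
      have h := hbX v (Subgroup.subset_closure (by simp))
      convert h using 1
      simp only [v]; group)
    have hup : u ^ p = 1 := by
      refine MulEquiv.ext fun k => ?_
      obtain ⟨m, hm⟩ := hu k
      rw [pow_fix_mul (β := u) hm (by rw [map_zpow, huZ]) p, hC_pow]
      simp
    have hid : ¬ (p : ℤ) ∣ (i : ℤ) := by
      intro hd
      rw [← zpow_natCast u i, zpow_eq_one_of_dvd hup hd, conj_eq_one_iff] at hi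
      rw [hi] at huY
      exact hz1 (congrArg Subtype.val (mul_left_cancel (a := Y) (huY.symm.trans (mul_one Y).symm)))
    obtain ⟨s, hs⟩ := exists_mul_mod_eq hid (j : ℤ)
    have hvpow : v = u ^ s := by
      have e1 : b * v * b⁻¹ = (b * u * b⁻¹) ^ s := by
        have e2 : b * v * b⁻¹ = (b * a) * u * (b * a)⁻¹ := by simp only [v]; group
        rw [e2, hj, hi, ← pow_mul, ← zpow_natCast u j, ← zpow_natCast u (i * s)]
        rw [show u ^ (((i * s : ℕ) : ℤ)) = u ^ ((j : ℤ) + (((s : ℤ) * i) - j)) by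
          congr 1; push_cast; ring, zpow_add, zpow_eq_one_of_dvd hup hs, mul_one]
      rw [conj_pow] at e1
      exact mul_left_cancel (mul_right_cancel e1)
    have hk : v (a Y) = a Y * Y := by
      show a (u (a⁻¹ (a Y))) = _
      rw [MulAut.inv_def, MulEquiv.symm_apply_apply, huY, map_mul, haZ]
    obtain ⟨m, hm⟩ := hu (a Y)
    rw [hvpow, pow_fix_mul (β := u) hm (by rw [map_zpow, huZ]) s] at hk
    have h1 := hZY (n := 1) ⟨m * s, by
      have := mul_left_cancel hk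
      rw [zpow_one, ← this]
      simp [zpow_mul]⟩
    exact hp.out.ne_one (by exact_mod_cast Int.eq_one_of_dvd_one (by omega) h1)
  obtain ⟨h, hh⟩ := hv Z
  have hhd : ¬ (p : ℤ) ∣ h := fun hd => hvZ (by
    rw [hh, zpow_eq_one_of_dvd (hC_pow Y) hd, mul_one])
  obtain ⟨s, hs⟩ := exists_mul_mod_eq hhd (-1)
  let v₁ : MulAut C := v ^ s
  have hv₁F : v₁ ∈ F.autGroup C := pow_mem (mul_mem (mul_mem ha huF) (inv_mem ha)) s
  have hv₁Z : v₁ Z = Z * Y⁻¹ := by
    show (v ^ s) Z = _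
    rw [pow_fix_mul (β := v) hh (by rw [map_zpow, hvY]) s, ← zpow_natCast (Y ^ h) s, ← zpow_mul,
      ← zpow_neg_one Y]
    refine congrArg (Z * ·) ?_
    rw [show h * (s : ℤ) = ((s : ℤ) * h - -1) + -1 by ring, zpow_add,
      zpow_eq_one_of_dvd (hC_pow Y) hs, one_mul]
  have hv₁Y : v₁ Y = Y := by
    show (v ^ s) Y = Y
    rw [pow_fix_mul (β := v) (z := 1) (by rw [hvY, mul_one]) (map_one v) s, one_pow, mul_one]
  have hv₁ : ∀ k : C, ∃ m : ℤ, v₁ k = k * Y ^ m := fun k => by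
    obtain ⟨m, hm⟩ := hv k
    refine ⟨m * s, ?_⟩
    show (v ^ s) k = _
    rw [pow_fix_mul (β := v) hm (by rw [map_zpow, hvY]) s, zpow_mul, zpow_natCast]
  let t : MulAut C := (u * v₁ * u) * (u * v₁ * u)
  have htF : t ∈ F.autGroup C :=
    mul_mem (mul_mem (mul_mem huF hv₁F) huF) (mul_mem (mul_mem huF hv₁F) huF)
  have hwZ : u (v₁ (u Z)) = Y⁻¹ := by
    rw [huZ, hv₁Z, map_mul, map_inv, huZ, huY, mul_inv_rev, mul_inv_cancel_left]
  have hwY : u (v₁ (u Y)) = Z := by
    rw [huY, map_mul, hv₁Y, hv₁Z, ← mul_assoc, hC_comm Y Z, mul_inv_cancel_right, huZ]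
  have htZ : t Z = Z⁻¹ := by
    show u (v₁ (u (u (v₁ (u Z))))) = _
    rw [hwZ, map_inv, map_inv, map_inv, hwY]
  have htY : t Y = Y⁻¹ := by
    show u (v₁ (u (u (v₁ (u Y))))) = _
    rw [hwY, hwZ]
  have htu : t * u = u * t := by
    refine MulEquiv.ext fun k => ?_
    obtain ⟨g, hg⟩ := hu k
    obtain ⟨f, hf⟩ := hv₁ k
    have hcZY : Commute Z Y := hC_comm Z Y
    let k₀ : C := k * Z ^ f * Y ^ (-g)
    have hk₀u : u k₀ = k₀ := by
      show u (k * Z ^ f * Y ^ (-g)) = k * Z ^ f * Y ^ (-g)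
      rw [map_mul, map_mul, map_zpow, map_zpow, huZ, huY, hg, (hcZY.symm).mul_zpow]
      calc k * Z ^ g * Z ^ f * (Y ^ (-g) * Z ^ (-g))
          = k * Z ^ g * Z ^ f * (Z ^ (-g) * Y ^ (-g)) := by rw [hC_comm (Y ^ (-g))]
        _ = _ := by group
    have hk₀v : v₁ k₀ = k₀ := by
      show v₁ (k * Z ^ f * Y ^ (-g)) = k * Z ^ f * Y ^ (-g)
      rw [map_mul, map_mul, map_zpow, map_zpow, hv₁Y, hv₁Z, hf, hcZY.inv_right.mul_zpow]
      calc k * Y ^ f * (Z ^ f * Y⁻¹ ^ f) * Y ^ (-g)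
          = k * (Y ^ f * Z ^ f) * Y⁻¹ ^ f * Y ^ (-g) := by group
        _ = k * (Z ^ f * Y ^ f) * Y⁻¹ ^ f * Y ^ (-g) := by rw [hC_comm (Y ^ f)]
        _ = _ := by group
    have htk₀ : t k₀ = k₀ := by
      show u (v₁ (u (u (v₁ (u k₀))))) = k₀
      simp only [hk₀u, hk₀v]
    have hke : k = k₀ * Y ^ g * Z ^ (-f) := by simp only [k₀]; group
    have e1 : (t * u) k₀ = (u * t) k₀ := by simp only [MulAut.mul_apply, hk₀u, htk₀]
    have e2 : (t * u) Y = (u * t) Y := by
      simp only [MulAut.mul_apply, huY, htY, map_mul, map_inv, htZ, mul_inv_rev]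
      exact hC_comm _ _
    have e3 : (t * u) Z = (u * t) Z := by simp only [MulAut.mul_apply, huZ, htZ, map_inv]
    rw [hke, map_mul, map_mul, map_zpow, map_zpow, e1, e2, e3, ← map_zpow, ← map_zpow, ← map_mul,
      ← map_mul]
  have htut : t * u * t⁻¹ = u := by rw [htu, mul_inv_cancel_right]
  obtain ⟨g, hg, hgk, hgp⟩ := exists_conj_image hrec hP hxP hxN htF
    (by
      show t * u * t⁻¹ ∈ _
      rw [htut]
      exact conjAut_mem_autInducedBy hxN (hP.1 hxP))
  have hd : x⁻¹ * g * y = y * (x⁻¹ * g) := by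
    have h := hgk Y
    rw [show t * conjAut hxN * t⁻¹ = u from htut] at h
    change x * y * x⁻¹ = g * y * g⁻¹ at h
    calc x⁻¹ * g * y = x⁻¹ * (g * y * g⁻¹) * g := by group
      _ = x⁻¹ * (x * y * x⁻¹) * g := by rw [h]
      _ = y * (x⁻¹ * g) := by group
  have hdP : x⁻¹ * g ∈ P := P.mul_mem (P.inv_mem hxP) hg
  obtain ⟨m, hm⟩ := hpow x hxP
  change z ^ m = x ^ p at hm
  have hxpC : x ^ p ∈ C := hm ▸ C.zpow_mem hzC m
  obtain ⟨c, hc⟩ := hshift x hxP _ hdP
  have hpodd : p ≠ 2 := by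
    intro h2
    subst h2
    -- both `x` and `x * y` square to `z`
    have hsq : ∀ a ∈ P, a ^ 2 ≠ 1 → a ^ 2 = z := by
      intro a ha hane
      obtain ⟨n, hn⟩ := hpow a ha
      rw [← hn]
      show z ^ n = z
      conv_rhs => rw [← zpow_one z]
      refine zpow_eq_zpow_of_dvd hzp ?_
      have hnd : ¬ ((2 : ℕ) : ℤ) ∣ n := fun hd => hane (by
        rw [← hn]
        exact zpow_eq_one_of_dvd hzp hd)
      omega
    have hx2 : x * x = z := by
      rw [← pow_two]; exact hsq x hxP fun h => hA x hxP hxC h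
    have hxy_ne : x * y * y ≠ y * (x * y) := fun h => hxC (by
      rw [← mul_assoc] at h
      exact mul_right_cancel h)
    have hxy2 := hsq (x * y) (P.mul_mem hxP hyP) fun h => hA (x * y) (P.mul_mem hxP hyP) hxy_ne h
    have e : (x * y) ^ 2 = (x * y * x⁻¹) * (x * x) * y := by rw [pow_two]; group
    rw [e, hxy, hx2, mul_assoc y, show z * z = 1 by rw [← pow_two]; exact hzp, mul_one,
      show y * y = 1 by rw [← pow_two]; exact hyp] at hxy2
    exact hz1 hxy2.symm
  obtain ⟨q, hq⟩ : p ∣ p.choose 2 := hp.out.dvd_choose_self two_ne_zero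
    (lt_of_le_of_ne hp.out.two_le (Ne.symm hpodd))
  have hgpow : g ^ p = x ^ p := by
    have hrelx : (x⁻¹ * g) * x = z ^ (-c) * x * (x⁻¹ * g) := by
      have hzx : x * z ^ (-c) = z ^ (-c) * x :=
        (Commute.zpow_right (show Commute x z from hzcP x hxP) (-c)).eq
      have hzd : x⁻¹ * g * z ^ c = z ^ c * (x⁻¹ * g) :=
        (Commute.zpow_right (show Commute (x⁻¹ * g) z from hzcP _ hdP) c).eq
      have h1 : x * (x⁻¹ * g) = z ^ c * (x⁻¹ * g) * x := by
        rw [← hzd, ← hc]; group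
      rw [mul_assoc (z ^ (-c)), h1]
      group
    have h := (CfsgLib.Coprime.mul_pow_of_central_commutator hrelx
      ((Commute.zpow_right (show Commute (x⁻¹ * g) z from hzcP _ hdP) (-c)).symm)
      ((Commute.zpow_right (show Commute x z from hzcP x hxP) (-c)).symm)).2 p
    rw [mul_inv_cancel_left, hq, pow_mul, hCp _ hdP hd, mul_one,
      show (z ^ (-c)) ^ p = 1 by rw [← zpow_natCast, zpow_comm, zpow_natCast, hzp, one_zpow],
      one_pow, one_mul] at h
    exact h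
  have hfin := hgp p hxpC
  rw [hgpow] at hfin
  have e : (⟨x ^ p, hxpC⟩ : C) = Z ^ m := Subtype.ext (by simpa [Z] using hm.symm)
  rw [e, map_zpow, htZ, ← hm] at hfin
  simp only [inv_zpow, InvMemClass.coe_inv, Subgroup.coe_zpow, Z] at hfin
  have h2m : (p : ℤ) ∣ m + m := by
    refine dvd_of_zpow_eq_one hzp hz1 ?_
    rw [zpow_add]
    nth_rw 1 [hfin]
    exact inv_mul_cancel _
  have hpm : (p : ℤ) ∣ m := by
    rw [← two_mul] at h2m
    rcases (Nat.prime_iff_prime_int.1 hp.out).dvd_or_dvd h2m with h2 | h2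
    · exact absurd (Nat.le_of_dvd two_pos (by exact_mod_cast h2)) (by
        have := hp.out.two_le; omega)
    · exact h2
  exact hA x hxP hxC (by rw [← hm]; exact zpow_eq_one_of_dvd hzp hpm)

end CfsgLib.GenExtraspecial
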